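import Groth.Agent.AlgSpQC.Main
import Groth.Agent.AlgSpQC.Qcoh
import Groth.Prelude.Def_AlgSpPerf

/-! Cohomology sheaves of pseudo-coherent objects on the small étale site. -/

set_option autoImplicit false
set_option linter.style.haveILetI false
set_option linter.unusedSectionVars false
set_option backward.isDefEq.respectTransparency false
set_option backward.isDefEq.respectTransparency.types false
set_option maxHeartbeats 1000000
set_option synthInstance.maxHeartbeats 400000

universe u v₁ u₁ v₂ u₂

open CategoryTheory Limits AlgebraicGeometry Opposite DerivedCategory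
open Groth.Agent.AlgSpQC

attribute [local instance] HasDerivedCategory.standard

noncomputable section

namespace Groth.Agent.AlgSpRlim

/-- An exact functor commutes with cohomology in the derived category. -/
theorem nonempty_homology_mapDerived {A : Type u₁} [Category.{v₁} A] [Abelian A] {B : Type u₂} [Category.{v₂} B]
    [Abelian B] (F : A ⥤ B) [F.Additive] [PreservesFiniteLimits F] [PreservesFiniteColimits F]
    (K : DerivedCategory A) (i : ℤ) :
    Nonempty ((homologyFunctor B i).obj (F.mapDerivedCategory.obj K) ≅ F.obj ((homologyFunctor A i).obj K)) := by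
  let K₀ := Q.objPreimage K
  let e : Q.obj K₀ ≅ K := Q.objObjPreimageIso K
  exact ⟨(homologyFunctor B i).mapIso (F.mapDerivedCategory.mapIso e.symm ≪≫ F.mapDerivedCategoryFactors.app K₀) ≪≫
    (homologyFunctorFactors B i).app _ ≪≫ (K₀.sc i).mapHomologyIso F ≪≫
    (F.mapIso ((homologyFunctorFactors A i).app K₀)).symm ≪≫ F.mapIso ((homologyFunctor A i).mapIso e)⟩

section Site

variable {C : Type (u + 1)} [Category.{u} C] {J : GrothendieckTopology C} {O : Sheaf J CommRingCat.{u + 1}}
  {Aff : C → Prop} (H : AffSite J O.obj Aff) [HasSheafify J AddCommGrpCat.{u + 1}]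
  [J.WEqualsLocallyBijective AddCommGrpCat.{u + 1}]

include H

/-- Direct summands of finite free modules are determined by base change. -/
theorem bc_of_summand {M : SheafOfModules.{u + 1} (RS O)} (h : DCoh.IsFinFreeSummandMod (RS O) M) :
    BC Aff M := by
  obtain ⟨n, i, p, hip⟩ := h
  have hw : i ≫ (𝟙 _ - p ≫ i) = 0 := by
    rw [Preadditive.comp_sub, Category.comp_id, ← Category.assoc, hip, Category.id_comp, sub_self]
  refine BC.of_iso (Iso.mk (kernel.ι (𝟙 _ - p ≫ i) ≫ p) (kernel.lift _ i hw) ?_ ?_)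
    (bc_kernel H (𝟙 _ - p ≫ i) (bc_free H _) (bc_free H _))
  · rw [← cancel_mono (kernel.ι (𝟙 _ - p ≫ i))]
    rw [Category.assoc, kernel.lift_ι, Category.assoc, Category.id_comp]
    have := kernel.condition (𝟙 _ - p ≫ i)
    rw [Preadditive.comp_sub, Category.comp_id, sub_eq_zero] at this
    exact this.symm
  · rw [kernel.lift_ι_assoc, hip]

/-- The cohomology of a complex of modules determined by base change is determined by base change. -/
theorem bc_homology (E : CochainComplex (SheafOfModules.{u + 1} (RS O)) ℤ) (h : ∀ i, BC Aff (E.X i)) (i : ℤ) :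
    BC Aff (E.homology i) := by
  let T := E.sc i
  have hc : BC Aff T.cycles :=
    BC.of_iso ((kernelIsKernel T.g).conePointUniqueUpToIso T.cyclesIsKernel) (bc_kernel H T.g (h _) (h _))
  exact BC.of_iso ((cokernelIsCokernel T.toCycles).coconePointUniqueUpToIso T.homologyIsCokernel)
    (bc_cokernel H T.toCycles (h _) hc)

end Site

variable {S : Scheme.{u}} {X : AlgSp.Sp S}

theorem bc_homology_perf (V : AlgSp.EtOver X) (P : CochainComplex (AlgSp.ModEtOn V) ℤ)
    (hP : ∀ j, DCoh.IsFinFreeSummandMod (AlgSp.OEtOn V) (P.X j)) (i : ℤ) :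
    BC (O := (AlgSp.OEt X).over V) (AffOver (Aff X) V) (P.homology i) :=
  bc_homology (O := (AlgSp.OEt X).over V) ((affSite X).over V) P
    (fun j => bc_of_summand (O := (AlgSp.OEt X).over V) ((affSite X).over V) (hP j)) i

theorem bc_res_homology (V : AlgSp.EtOver X) (E : AlgSp.DModEt X) (P : CochainComplex (AlgSp.ModEtOn V) ℤ)
    (α : DCoh.toDMod (AlgSp.OEtOn V) P ⟶ (AlgSp.resDEt V).obj E) (i : ℤ)
    (hP : ∀ j, DCoh.IsFinFreeSummandMod (AlgSp.OEtOn V) (P.X j))
    [IsIso ((homologyFunctor (AlgSp.ModEtOn V) i).map α)] :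
    BC (O := (AlgSp.OEt X).over V) (AffOver (Aff X) V)
      ((AlgSp.resModEt V).obj ((homologyFunctor (AlgSp.ModEt X) i).obj E)) := by
  obtain ⟨e⟩ := nonempty_homology_mapDerived (AlgSp.resModEt V) E i
  exact BC.of_iso (O := (AlgSp.OEt X).over V)
    (((homologyFunctorFactors (AlgSp.ModEtOn V) i).app P).symm ≪≫
      asIso ((homologyFunctor (AlgSp.ModEtOn V) i).map α) ≪≫ e)
    (bc_homology_perf V P hP i)

/-- Above `m` the cohomology of an `m`-pseudo-coherent object is quasi-coherent. -/
theorem qc_homology_of_pc {m : ℤ} {E : AlgSp.DModEt X} (hE : AlgSp.IsPseudoCoherentEtD m E) {i : ℤ} (hi : m < i) :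
    QC ((homologyFunctor (AlgSp.ModEt X) i).obj E) := by
  refine isBC_of_local (affSite X) _ ((homologyFunctor (AlgSp.ModEt X) i).obj E).isSheaf fun U _ => ?_
  obtain ⟨ι, V, g, hg, hV⟩ := hE U
  refine ⟨Sieve.ofArrows V g, Precoverage.generate_mem_toGrothendieck hg, fun Y f hf _ => ?_⟩
  obtain ⟨k, a, -⟩ := (Sieve.mem_ofArrows_iff _ _ _).1 hf
  obtain ⟨P, α, ⟨-, hP⟩, hiso, -⟩ := hV k
  haveI := hiso i hi
  exact fun A B f b hA hB => isBCUnder_of_over (V k) (bc_res_homology (V k) E P α i hP) f (b ≫ a) hA hB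

end Groth.Agent.AlgSpRlim

end
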