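import Groth.Agent.AlgSpRlim.PushConserv
import Groth.Agent.AlgSpRlim.PC
import Groth.Prelude.Def_AlgSpPerf

/-! Perfect objects on quasi-compact algebraic spaces are bounded above. -/

set_option autoImplicit false
set_option linter.style.haveILetI false
set_option linter.unusedSectionVars false
set_option backward.isDefEq.respectTransparency false
set_option backward.isDefEq.respectTransparency.types false
set_option maxHeartbeats 1000000
set_option synthInstance.maxHeartbeats 400000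

universe v₁ u₁ u

open CategoryTheory Limits AlgebraicGeometry Opposite DerivedCategory Pretriangulated
open Groth.Agent.AlgSpQC Groth.Agent.AlgSpFT Groth.Agent.RlimCrit

attribute [local instance] HasDerivedCategory.standard

noncomputable section

namespace Groth.Agent.AlgSpRlim

variable {S : Scheme.{u}} {X : AlgSp.Sp S}

/-- A section vanishes if it vanishes on a jointly surjective family. -/
theorem eq_zero_of_cover (H : AlgSp.ModEt X) {E : AlgSp.EtOver X} {ι : Type (u + 1)} (W : ι → AlgSp.EtOver X)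
    (j : ∀ i, W i ⟶ E) (hcov : ∀ x : ↥E.obj.left.left, ∃ i, x ∈ Set.range (j i).hom.left.left)
    (s : H.val.obj (op E)) (h : ∀ i, H.val.presheaf.map (j i).op s = 0) : s = 0 := by
  refine ((isSheaf_iff_isSheaf_of_type _ _).1
    ((sheafCompose (AlgSp.etTop X) (forget AddCommGrpCat.{u + 1})).obj ((SheafOfModules.toSheaf _).obj H)).property
    _ (AlgSp.ofArrows_mem_etTop W j hcov)).isSeparatedFor.ext fun Z g hg => ?_
  obtain ⟨y, r, rfl⟩ := (Sieve.mem_ofArrows_iff _ _ _).1 hg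
  show H.val.presheaf.map (r ≫ j y).op _ = H.val.presheaf.map (r ≫ j y).op _
  rw [op_comp, Functor.map_comp, ConcreteCategory.comp_apply, ConcreteCategory.comp_apply]
  refine congrArg _ ?_
  exact (h y).trans (map_zero (H.val.presheaf.map (j y).op).hom).symm

/-- A module is zero if all its sections vanish. -/
theorem isZero_of_sections (H : AlgSp.ModEt X)
    (h : ∀ (E : AlgSp.EtOver X) (s : H.val.obj (op E)), s = 0) : IsZero H := by
  refine (IsZero.iff_id_eq_zero _).2 ((isLocGen_genP X).det _ fun U x => ?_)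
  rw [Category.comp_id]
  apply (gsec U H).injective
  rw [gsec_zero]
  exact h _ _

/-- Sections of a module with zero restriction vanish. -/
theorem sec_eq_zero_of_res {H : AlgSp.ModEt X} {V W : AlgSp.EtOver X} (a : W ⟶ V)
    (hH : IsZero ((AlgSp.resModEt V).obj H)) (s : H.val.obj (op W)) : s = 0 := by
  have h := hH.eq_of_src (𝟙 ((AlgSp.resModEt V).obj H)) 0
  exact congrArg (fun φ : (AlgSp.resModEt V).obj H ⟶ (AlgSp.resModEt V).obj H =>
    (φ.val.app (op (Over.mk a))).hom s) h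

/-- Objects of a jointly surjective family over a chart induce jointly surjective families over all objects. -/
theorem exists_common {U₀ : Over S} (p : (AlgSp.yon S).obj U₀ ⟶ X) (hpe : AlgSp.RepWith @AlgebraicGeometry.Etale p)
    (hps : AlgSp.RepWith @Surjective p) {ι : Type (u + 1)} (V : ι → AlgSp.EtOver X)
    (g : ∀ i, V i ⟶ AlgSp.EtOver.mk p hpe) (hg : ∀ x : ↥U₀.left, ∃ i, x ∈ Set.range (g i).hom.left.left)
    (E : AlgSp.EtOver X) :
    ∃ (W : ι → AlgSp.EtOver X) (j : ∀ i, W i ⟶ E), Nonempty (∀ i, W i ⟶ V i) ∧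
      ∀ x : ↥E.obj.left.left, ∃ i, x ∈ Set.range (j i).hom.left.left := by
  let π : hpe.1.pullback E.obj.hom ⟶ E.obj.left := hpe.1.snd E.obj.hom
  haveI hπs : Surjective π.left := hps.2 _ _ _ (hpe.1.isPullback E.obj.hom)
  haveI hπe : AlgebraicGeometry.Etale π.left := hpe.2 _ _ _ (hpe.1.isPullback E.obj.hom)
  let q₀ : hpe.1.pullback E.obj.hom ⟶ U₀ := hpe.1.fst' E.obj.hom
  let E' : AlgSp.EtOver X := AlgSp.EtOver.mk ((AlgSp.yon S).map π ≫ E.obj.hom)
    (ASp.repWith_comp (P := @AlgebraicGeometry.Etale) (ASp.repWith_yon_map (P := @AlgebraicGeometry.Etale) (g := π) hπe) E.property)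
  let b : E' ⟶ E := AlgSp.EtOver.homMk π rfl
  let a : E' ⟶ AlgSp.EtOver.mk p hpe := AlgSp.EtOver.homMk q₀
    ((congrArg (· ≫ p) (Functor.relativelyRepresentable.map_fst' hpe.1 E.obj.hom)).trans (hpe.1.isPullback E.obj.hom).w)
  refine ⟨fun i => AlgSp.EtOver.pullbackObj a (g i), fun i => AlgSp.EtOver.pullbackFst a (g i) ≫ b,
    ⟨fun i => AlgSp.EtOver.pullbackSnd a (g i)⟩, fun x => ?_⟩
  obtain ⟨w, hw⟩ := π.left.surjective x
  obtain ⟨i, v, hv⟩ := hg (q₀.left w)
  obtain ⟨z, hz, -⟩ := Scheme.exists_preimage_of_isPullback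
    ((IsPullback.of_hasPullback a.hom.left (g i).hom.left).map (Over.forget S)) w v hv.symm
  exact ⟨i, z, (congrArg (fun t => π.left t) hz).trans hw⟩

/-- A perfect object on a quasi-compact algebraic space is bounded above. -/
theorem exists_isLE_of_perfect (hX : AlgSp.IsQuasiCompactSp X) {P : AlgSp.DModEt X} (hP : AlgSp.IsPerfectEtD P) :
    ∃ B : ℤ, P.IsLE B := by
  obtain ⟨U₀, p, hpe, hps, hU₀⟩ := hX
  haveI : CompactSpace ↥U₀.left := hU₀
  obtain ⟨ι, V, g, hg, hV⟩ := hP (AlgSp.EtOver.mk p hpe)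
  rw [AlgSp.ofArrows_mem_etPre_iff] at hg
  choose Q hQ e using hV
  choose a b hab using fun i => (hQ i).1
  obtain ⟨I, hI⟩ := (isCompact_univ (X := ↥U₀.left)).elim_finite_subcover
    (fun i => Set.range (g i).hom.left.left)
    (fun i => haveI := AlgSp.EtOver.etale_left (g i); ((g i).hom.left.left).isOpenMap.isOpen_range)
    (fun x _ => Set.mem_iUnion.2 (hg x))
  let B : ℤ := I.fold max 0 b
  refine ⟨B, (isLE_iff _ _).2 fun j hj => isZero_of_sections _ fun E s => ?_⟩
  obtain ⟨W, w, ⟨r⟩, hw⟩ := exists_common p hpe hps (fun i : ULift.{u + 1} {i // i ∈ I} => V i.down.1)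
    (fun i => g i.down.1) (fun x => by
      obtain ⟨i, hi, hx⟩ := Set.mem_iUnion₂.1 (hI (Set.mem_univ x))
      exact ⟨⟨⟨i, hi⟩⟩, hx⟩) E
  refine eq_zero_of_cover _ W w hw s fun i => ?_
  refine sec_eq_zero_of_res (r i) ?_ _
  obtain ⟨h⟩ := nonempty_homology_mapDerived (AlgSp.resModEt (V i.down.1)) P j
  obtain ⟨t⟩ := e i.down.1
  refine IsZero.of_iso ?_ (h.symm ≪≫ (homologyFunctor _ j).mapIso t ≪≫ (homologyFunctorFactors _ j).app (Q i.down.1))
  refine (HomologicalComplex.exactAt_iff_isZero_homology _ _).1 ?_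
  rw [HomologicalComplex.exactAt_iff]
  refine ShortComplex.exact_of_isZero_X₂ _ (hab i.down.1 j (Or.inr ?_))
  have hle : b i.down.1 ≤ B := Finset.le_fold_max (b i.down.1) |>.2 (Or.inr ⟨i.down.1, i.down.2, le_rfl⟩)
  omega

end Groth.Agent.AlgSpRlim

section Generic

variable {C : Type u₁} [Category.{v₁} C] [Abelian C]

local notation "tS" => (DerivedCategory.TStructure.t : CategoryTheory.Triangulated.TStructure (DerivedCategory C))

theorem Groth.Agent.AlgSpRlim.isLE_shiftG (L : DerivedCategory C) (c n c' : ℤ) [L.IsLE c] (h : c ≤ c' + n) :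
    (L⟦n⟧).IsLE c' :=
  (isLE_iff _ _).2 fun i hi => ((isLE_iff L c).1 ‹_› (n + i) (by omega)).of_iso
    (((homologyFunctor C 0).shiftIso n i (n + i) rfl).app L)

theorem Groth.Agent.AlgSpRlim.isGE_shiftG (L : DerivedCategory C) (c n c' : ℤ) [L.IsGE c] (h : c' + n ≤ c) :
    (L⟦n⟧).IsGE c' :=
  (isGE_iff _ _).2 fun i hi => ((isGE_iff L c).1 ‹_› (n + i) (by omega)).of_iso
    (((homologyFunctor C 0).shiftIso n i (n + i) rfl).app L)

/-- Vanishing of maps out of negative shifts of a bounded above object only depends on a truncation. -/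
theorem Groth.Agent.AlgSpRlim.vanishing_iff_truncLE {P : DerivedCategory C} {B : ℤ} (hB : P.IsLE B)
    (E : DerivedCategory C) (a : ℤ) :
    (∃ N : ℤ, ∀ i : ℤ, i ≤ N → ∀ φ : P⟦-i⟧ ⟶ E, φ = 0) ↔
    (∃ N : ℤ, ∀ i : ℤ, i ≤ N → ∀ φ : P⟦-i⟧ ⟶ ((tS).truncLE a).obj E, φ = 0) := by
  obtain ⟨T, hT, h₁, h₂, hle, hge⟩ : ∃ T : Triangle (DerivedCategory C), T ∈ distTriang _ ∧
      T.obj₂ = E ∧ T.obj₁ = ((tS).truncLE a).obj E ∧ T.obj₁.IsLE a ∧ T.obj₃.IsGE (a + 1) :=
    ⟨((tS).triangleLEGE a (a + 1) rfl).obj E, (tS).triangleLEGE_distinguished a (a + 1) rfl E, rfl, rfl,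
      inferInstanceAs ((tS).IsLE (((tS).truncLE a).obj E) a), inferInstanceAs ((tS).IsGE (((tS).truncGE (a + 1)).obj E) (a + 1))⟩
  rw [← h₂, ← h₁]
  have h3 : ∀ i, i ≤ a - B → ∀ φ : P⟦-i⟧ ⟶ T.obj₃, φ = 0 := fun i hi φ => by
    haveI : (tS).IsLE (P⟦-i⟧) a := Groth.Agent.AlgSpRlim.isLE_shiftG P B _ a (by omega)
    haveI : (tS).IsGE T.obj₃ (a + 1) := hge
    exact (tS).zero φ a (a + 1) (by omega)
  have h4 : ∀ i, i ≤ a - B → ∀ φ : P⟦-i⟧ ⟶ T.obj₁, φ ≫ T.mor₁ = 0 → φ = 0 := fun i hi φ hφ => by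
    obtain ⟨g, hg⟩ := Triangle.coyoneda_exact₂ T.invRotate (inv_rot_of_distTriang _ hT) φ hφ
    haveI : (tS).IsLE (P⟦-i⟧) a := Groth.Agent.AlgSpRlim.isLE_shiftG P B _ a (by omega)
    haveI : (tS).IsGE T.invRotate.obj₁ (a + 1) :=
      haveI := hge
      Groth.Agent.AlgSpRlim.isGE_shiftG T.obj₃ (a + 1) (-1) (a + 1) (by omega)
    rw [hg, (tS).zero g a (a + 1) (by omega)]
    exact zero_comp
  constructor
  · rintro ⟨N, hN⟩
    exact ⟨min N (a - B), fun i hi φ => h4 i (le_trans hi (min_le_right _ _)) φ (hN i (le_trans hi (min_le_left _ _)) _)⟩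
  · rintro ⟨N, hN⟩
    refine ⟨min N (a - B), fun i hi φ => ?_⟩
    obtain ⟨g, hg⟩ := Triangle.coyoneda_exact₂ T hT φ (h3 i (le_trans hi (min_le_right _ _)) _)
    rw [hg, hN i (le_trans hi (min_le_left _ _)) g]
    exact zero_comp

end Generic
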