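import Groth.Agent.AlgSpRlim.Small
import Groth.Agent.RlimCrit.SingleLimit
import Groth.Agent.RlimCrit.ModVanish
import Groth.Agent.RlimCrit.Sites
import Groth.Agent.AlgSpQC.MainExt

/-! Free modules on affine objects as generators for modules on the small étale site. -/

set_option autoImplicit false
set_option linter.style.haveILetI false
set_option linter.unusedSectionVars false
set_option backward.isDefEq.respectTransparency false
set_option backward.isDefEq.respectTransparency.types false
set_option maxHeartbeats 1000000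
set_option synthInstance.maxHeartbeats 400000

universe u

open CategoryTheory Limits AlgebraicGeometry Opposite Abelian
open Groth.Agent.AlgSpQC Groth.Agent.AlgSpFT Groth.Agent.CohColim Groth.Agent.RlimCrit

noncomputable section

namespace Groth.Agent.AlgSpRlim

variable {S : Scheme.{u}} (X : AlgSp.Sp S)

/-- Free modules on objects, as modules on the small étale site. -/
abbrev genP : Cs X ⥤ AlgSp.ModEt X := modP (ModSite.ringSh (Os X)) ⋙ (modEquiv X).inverse

theorem isLocGen_genP : IsLocGen (Js X) (genP X) := by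
  refine IsLocGen.of_faithful (modEquiv X).functor (isLocGen_mod _)
    ((modP (ModSite.ringSh (Os X))).rightUnitor.inv ≫
      Functor.whiskerLeft _ (modEquiv X).counitIso.inv) fun U M => ?_
  let e : (modEquiv X).functor.obj ((genP X).obj U) ≅ (modP (ModSite.ringSh (Os X))).obj U :=
    (modEquiv X).counitIso.app _
  constructor
  · intro a b h
    refine (modEquiv X).functor.map_injective ((cancel_epi e.inv).1 ?_)
    simpa [e] using h
  · intro f
    refine ⟨(modEquiv X).functor.preimage (e.hom ≫ f), ?_⟩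
    simp [e]

variable {X}

/-- Extensions from free modules on affine objects into quasi-coherent modules vanish. -/
theorem subsingleton_ext_genP [HasExt.{u + 1} (AlgSp.ModEt X)] {M : AlgSp.ModEt X} (hM : QC M) {U : Cs X}
    (hU : U ∈ affB X) (k : ℕ) (hk : 0 < k) :
    Subsingleton (Ext.{u + 1} ((genP X).obj U) M k) := by
  obtain ⟨k, rfl⟩ : ∃ k', k = k' + 1 := ⟨k - 1, by omega⟩
  haveI : IsGrothendieckAbelian.{u + 1} (ModSite.Mod (Os X)) := ModTensor.isGrothendieckAbelian_mod _
  haveI : HasExt.{u + 1} (ModSite.Mod (Os X)) := inferInstance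
  haveI := subsingleton_ext_mod (ModSite.ringSh (Os X)) U ((modEquiv X).functor.obj M) (k + 1)
    (subsingleton_HU_small hM hU k)
  let e : (modEquiv X).functor.obj ((genP X).obj U) ≅ (modP (ModSite.ringSh (Os X))).obj U :=
    (modEquiv X).counitIso.app _
  haveI : Subsingleton (Ext.{u + 1} ((modEquiv X).functor.obj ((genP X).obj U))
      ((modEquiv X).functor.obj M) (k + 1)) :=
    Function.Injective.subsingleton (f := fun x => (Ext.mk₀ e.inv).comp x (zero_add (k + 1)))
      fun x y h => by simpa using congrArg (fun z => (Ext.mk₀ e.hom).comp z (zero_add (k + 1))) h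
  exact (bijective_mapExt_of_isEquivalence (modEquiv X).functor ((genP X).obj U) M (k + 1)).1.subsingleton

/-- Epimorphisms of quasi-coherent modules lift over affine objects. -/
theorem exists_lift_qc [HasExt.{u + 1} (AlgSp.ModEt X)] {M N : AlgSp.ModEt X} (φ : M ⟶ N) [Epi φ]
    (hM : QC M) (hN : QC N) {U : Cs X} (hU : U ∈ affB X) (x : (genP X).obj U ⟶ N) :
    ∃ y : (genP X).obj U ⟶ M, y ≫ φ = x := by
  let C : ShortComplex (AlgSp.ModEt X) := ShortComplex.mk (kernel.ι φ) φ (kernel.condition _)
  have hC : C.ShortExact := ShortComplex.ShortExact.mk'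
    (ShortComplex.exact_of_f_is_kernel _ (kernelIsKernel _)) inferInstance ‹_›
  haveI : Subsingleton (Ext.{u + 1} ((genP X).obj U) C.X₁ 1) :=
    subsingleton_ext_genP (qc_kernel φ hM hN) hU 1 one_pos
  obtain ⟨y, hy⟩ := Ext.covariant_sequence_exact₃ _ hC (Ext.mk₀ x) (zero_add 1) (Subsingleton.elim _ _)
  obtain ⟨y, rfl⟩ := (Ext.mk₀_bijective _ _).2 y
  rw [Ext.mk₀_comp_mk₀] at hy
  exact ⟨y, (Ext.mk₀_bijective _ _).1 hy⟩

/-- Surjective systems of quasi-coherent modules have no `R¹ lim` on affine objects. -/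
theorem exists_sub_eq_qc [HasExt.{u + 1} (AlgSp.ModEt X)] {F : ℕ → AlgSp.ModEt X} (hF : ∀ n, QC (F n))
    (t : ∀ n, F (n + 1) ⟶ F n) (ht : ∀ n, Epi (t n)) {U : Cs X} (hU : U ∈ affB X)
    (η : ∀ n, (genP X).obj U ⟶ F n) :
    ∃ y : ∀ n, (genP X).obj U ⟶ F n, ∀ n, y n - y (n + 1) ≫ t n = η n :=
  exists_sub_eq 0 (X := fun n => (genP X).obj U ⟶ F n) (fun n => Preadditive.rightComp _ (t n))
    (fun n _ x => by haveI := ht n; exact exists_lift_qc (t n) (hF (n + 1)) (hF n) hU x) η

end Groth.Agent.AlgSpRlim

end
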