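import Groth.Agent.AlgSpRlim.Gen
import Groth.Agent.TildeD.Adj
import Groth.Agent.RlimCrit.AbLimit
import Groth.Prelude.Def_DCoh2
import Groth.Prelude.Def_CohCx

/-! Derived limits of systems with quasi-coherent cohomology on the small étale site. -/

set_option autoImplicit false
set_option linter.style.haveILetI false
set_option linter.unusedSectionVars false
set_option backward.isDefEq.respectTransparency false
set_option backward.isDefEq.respectTransparency.types false
set_option maxHeartbeats 1000000
set_option synthInstance.maxHeartbeats 400000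

universe u

open CategoryTheory Limits AlgebraicGeometry Opposite Abelian DerivedCategory
open Groth.Agent.AlgSpQC Groth.Agent.AlgSpFT Groth.Agent.RlimCrit

attribute [local instance] HasDerivedCategory.standard

noncomputable section

namespace Groth.Agent.AlgSpRlim

variable {S : Scheme.{u}} (X : AlgSp.Sp S)

theorem isGrothendieckAbelian_modEt : IsGrothendieckAbelian.{u + 1} (AlgSp.ModEt X) := by
  haveI : IsGrothendieckAbelian.{u + 1} (ModSite.Mod (Os X)) := ModTensor.isGrothendieckAbelian_mod _
  exact IsGrothendieckAbelian.of_equivalence (modEquiv X).symm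

theorem hasExt_modEt : HasExt.{u + 1} (AlgSp.ModEt X) := by
  haveI := isGrothendieckAbelian_modEt X
  infer_instance

theorem hasProducts_DModEt : HasProductsOfShape ℕ (AlgSp.DModEt X) := by
  haveI := isGrothendieckAbelian_modEt X
  exact TildeD.hasProductsOfShape_derived (KInj.hres_of_isGrothendieckAbelian _) ℕ

variable {X}

theorem qc_homology {E : AlgSp.DModEt X} (hE : DCoh.IsQCohDMod (AlgSp.OEtRing X) E) (i : ℤ) :
    QC ((homologyFunctor (AlgSp.ModEt X) i).obj E) :=
  (isQuasicoherent_iff _).1 (hE i)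

/-- Objects with quasi-coherent cohomology are the limits of their truncations. -/
theorem isRlimVia_trunc (E : AlgSp.DModEt X) (hE : DCoh.IsQCohDMod (AlgSp.OEtRing X) E)
    [HasProduct (CohCx.truncTower E)] :
    CohCx.IsRlimVia (CohCx.truncTower E) (CohCx.truncTowerMap E) E (CohCx.toTruncTower E) := by
  haveI := hasExt_modEt X
  refine isRlimVia_truncTower.{u + 1} (isLocGen_genP X) (affB X) (affB_cover X) E fun q W _ T hT => ?_
  obtain ⟨ι, Y, f, hS, hf⟩ := exists_family_le (affB X) (affB_cover X) (T (-q).toNat) (hT _)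
  exact ⟨ι, Y, f, hS, fun i => ⟨(-q).toNat, (hf i).1, fun n hn k hk =>
    subsingleton_ext_genP (qc_homology hE _) (hf i).2 k (by omega)⟩⟩

/-- Morphisms from free modules on affine objects compute cohomology. -/
theorem cl_bijective_qc (E : AlgSp.DModEt X) (hE : DCoh.IsQCohDMod (AlgSp.OEtRing X) E) {U : Cs X}
    (hU : U ∈ affB X) (r : ℤ) :
    Function.Bijective (cl : (sgl r ((genP X).obj U) ⟶ E) → _) := by
  haveI := hasExt_modEt X
  haveI := hasProducts_DModEt X
  haveI : HasProduct (CohCx.truncTower E) := inferInstance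
  exact cl_bijective _ r E (isRlimVia_trunc E hE) fun i k hk => subsingleton_ext_genP (qc_homology hE i) hU k hk

/-- Limits of surjective systems of quasi-coherent modules are derived limits, and are acyclic. -/
theorem isRlim_limit_qc (F : ℕ → AlgSp.ModEt X) (hF : ∀ n, QC (F n)) (t : ∀ n, F (n + 1) ⟶ F n)
    (ht : ∀ n, Epi (t n)) [HasExt.{u + 1} (AlgSp.ModEt X)]
    [HasProduct fun n => (singleFunctor (AlgSp.ModEt X) 0).obj (F n)] :
    DCoh.IsRlim (fun n => (singleFunctor (AlgSp.ModEt X) 0).obj (F n))
      (fun n => (singleFunctor (AlgSp.ModEt X) 0).map (t n))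
        ((singleFunctor (AlgSp.ModEt X) 0).obj (limit (Functor.ofOpSequence t))) ∧
      ∀ U ∈ affB X, ∀ p : ℕ, 0 < p →
        Subsingleton (Ext.{u + 1} ((genP X).obj U) (limit (Functor.ofOpSequence t)) p) :=
  isRlim_limit (isLocGen_genP X) (affB X) (affB_cover X) F t
    (fun U hU n k hk => subsingleton_ext_genP (hF n) hU k hk)
    (fun U hU η => exists_sub_eq_qc hF t ht hU η)

/-- A derived limit of a system in degree zero which is in degree zero is one through the projections. -/
theorem isRlimVia_limit_π {A : Type*} [Category A] [Abelian A] [HasDerivedCategory A] [HasLimitsOfShape ℕᵒᵖ A]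
    {F : ℕ → A} {t : ∀ n, F (n + 1) ⟶ F n} [HasProduct fun n => (singleFunctor A 0).obj (F n)]
    (h : DCoh.IsRlim (fun n => (singleFunctor A 0).obj (F n)) (fun n => (singleFunctor A 0).map (t n))
      ((singleFunctor A 0).obj (limit (Functor.ofOpSequence t)))) :
    CohCx.IsRlimVia (fun n => (singleFunctor A 0).obj (F n)) (fun n => (singleFunctor A 0).map (t n))
      ((singleFunctor A 0).obj (limit (Functor.ofOpSequence t)))
      (fun n => (singleFunctor A 0).map (limit.π (Functor.ofOpSequence t) (op n))) := by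
  obtain ⟨a', c, hc⟩ := h
  let H := singleFunctor A 0
  let K : ℕ → DerivedCategory A := fun n => H.obj (F n)
  haveI : HasProduct K := inferInstanceAs (HasProduct fun n => H.obj (F n))
  let L := limit (Functor.ofOpSequence t)
  let a : ∀ n, H.obj L ⟶ K n := fun n => H.map (limit.π (Functor.ofOpSequence t) (op n))
  have hV : CohCx.IsRlimVia K (fun n => H.map (t n)) (H.obj L) (fun n => a' ≫ Pi.π K n) :=
    ⟨c, by rw [show Pi.lift (fun n => a' ≫ Pi.π K n) = a' from Pi.hom_ext _ _ fun n => Pi.lift_π _ _]; exact hc⟩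
  choose b hb using fun n => H.map_surjective (a' ≫ Pi.π K n)
  have hcompat : ∀ n, b (n + 1) ≫ t n = b n := fun n => H.map_injective (by
    rw [H.map_comp, hb, hb]; exact compat_of_isRlimVia hV n)
  let cone : Cone (Functor.ofOpSequence t) := Cone.mk L (NatTrans.ofOpSequence b fun n => by
    refine (Category.id_comp _).trans (Eq.trans (hcompat n).symm ?_)
    exact (congrArg (b (n + 1) ≫ ·) (Functor.ofOpSequence_map_homOfLE_succ t n)).symm)
  let ψ : L ⟶ L := limit.lift _ cone
  have hψ : ∀ n, H.map ψ ≫ a n = a' ≫ Pi.π K n := fun n => by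
    rw [← hb n, ← H.map_comp]; exact congrArg H.map (limit.lift_π cone (op n))
  obtain ⟨φ, hφ⟩ := exists_lift_of_compat hV a fun n => by
    show H.map _ ≫ H.map (t n) = H.map _
    rw [← H.map_comp]
    refine congrArg H.map ((congrArg (limit.π (Functor.ofOpSequence t) (op (n + 1)) ≫ ·)
      (Functor.ofOpSequence_map_homOfLE_succ t n).symm).trans (limit.w (Functor.ofOpSequence t) _))
  obtain ⟨χ, rfl⟩ := H.map_surjective φ
  have h1 : χ ≫ ψ = 𝟙 L := limit.hom_ext fun ⟨n⟩ => H.map_injective (by
    rw [Category.id_comp, Category.assoc, H.map_comp, H.map_comp, hψ]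
    exact hφ n)
  have h2 : ψ ≫ χ = 𝟙 L := H.map_injective (by
    refine sub_eq_zero.1 (eq_zero_of_limOne hV (fun η => ⟨fun _ => 0, fun n => ?_⟩) _ fun n => ?_)
    · haveI : ((H.obj L)⟦(1 : ℤ)⟧).IsLE (-1) := TStructure.t.isLE_shift (H.obj L) 0 1 (-1) (by omega)
      haveI := subsingleton_hom_of_lt (X := (H.obj L)⟦(1 : ℤ)⟧) (Y := K n) (-1) 0 (by omega)
      exact Subsingleton.elim _ _
    · rw [Preadditive.sub_comp, H.map_comp, H.map_id, Category.assoc, Category.id_comp, hφ n, hψ n, sub_self])
  let i : H.obj L ≅ H.obj L := H.mapIso ⟨χ, ψ, h1, h2⟩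
  have hai : Pi.lift a = i.hom ≫ a' := Pi.hom_ext _ _ fun n => by
    rw [Pi.lift_π, Category.assoc]; exact (hφ n).symm
  refine ⟨c ≫ i.inv⟦(1 : ℤ)⟧', Pretriangulated.isomorphic_distinguished _ hc _
    (Pretriangulated.Triangle.isoMk _ _ i (Iso.refl _) (Iso.refl _) ?_ ?_ ?_)⟩
  · exact (Category.comp_id _).trans hai
  · exact (Category.comp_id _).trans (Category.id_comp _).symm
  · show (c ≫ i.inv⟦(1 : ℤ)⟧') ≫ i.hom⟦(1 : ℤ)⟧' = 𝟙 _ ≫ c
    rw [Category.assoc, ← Functor.map_comp, i.inv_hom_id, CategoryTheory.Functor.map_id, Category.comp_id, Category.id_comp]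

end Groth.Agent.AlgSpRlim

end

noncomputable section

attribute [local instance] HasDerivedCategory.standard

namespace Groth.Agent.AlgSpRlim

open CategoryTheory Limits AlgebraicGeometry Opposite Abelian DerivedCategory
open Groth.Agent.AlgSpQC Groth.Agent.AlgSpFT Groth.Agent.RlimCrit

variable {S : Scheme.{u}} {X : AlgSp.Sp S}

/-- The cohomology of the derived limit of a system with surjective quasi-coherent cohomology, as a
limit cone. -/
theorem exists_isLimit_homology {K : ℕ → AlgSp.DModEt X} (t : ∀ n, K (n + 1) ⟶ K n)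
    (hK : ∀ n, DCoh.IsQCohDMod (AlgSp.OEtRing X) (K n))
    (ht : ∀ (q : ℤ) (n : ℕ), Epi ((homologyFunctor (AlgSp.ModEt X) q).map (t n)))
    [HasProduct K] {L : AlgSp.DModEt X} {a : ∀ n, L ⟶ K n} (hL : CohCx.IsRlimVia K t L a) (q : ℤ) :
    ∃ c : Cone (Functor.ofOpSequence (X := fun n => (homologyFunctor (AlgSp.ModEt X) q).obj (K n))
        fun n => (homologyFunctor (AlgSp.ModEt X) q).map (t n)),
      ∃ e : (homologyFunctor (AlgSp.ModEt X) q).obj L ≅ c.pt,
        Nonempty (IsLimit c) ∧ ∀ n, e.hom ≫ c.π.app (op n) = (homologyFunctor (AlgSp.ModEt X) q).map (a n) := by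
  haveI := hasExt_modEt X
  let H := homologyFunctor (AlgSp.ModEt X) q
  let cone : Cone (Functor.ofOpSequence (X := fun n => H.obj (K n)) fun n => H.map (t n)) :=
    Cone.mk (H.obj L) (NatTrans.ofOpSequence (fun n => H.map (a n)) fun n => by
      refine (Category.id_comp _).trans ?_
      refine Eq.trans ?_ (congrArg (H.map (a (n + 1)) ≫ ·) (Functor.ofOpSequence_map_homOfLE_succ _ n)).symm
      exact ((congrArg H.map (compat_of_isRlimVia hL n)).symm.trans (H.map_comp _ _)))
  haveI : IsIso (limit.lift _ cone) := isIso_limit_lift (isLocGen_genP X) (affB X) (affB_cover X) hL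
    (fun U hU n r => cl_bijective_qc (K n) (hK n) hU r)
    (fun U hU r η => exists_sub_eq_qc (fun n => qc_homology (hK n) r) _ (fun n => ht r n) hU η)
    q (limit.cone _) (limit.isLimit _) _ fun n => limit.lift_π cone (op n)
  exact ⟨limit.cone _, asIso (limit.lift _ cone), ⟨limit.isLimit _⟩, fun n => limit.lift_π cone (op n)⟩

/-- Sections of a limit of a sequence of modules are the compatible families. -/
theorem sections_limit {F : ℕ → AlgSp.ModEt X} {t : ∀ n, F (n + 1) ⟶ F n} {L : AlgSp.ModEt X}
    (π : ∀ n, L ⟶ F n) {c : Cone (Functor.ofOpSequence t)} (hc : IsLimit c) (e : L ≅ c.pt)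
    (he : ∀ n, e.hom ≫ c.π.app (op n) = π n) (W : AlgSp.EtOver X) :
    (∀ s s' : L.val.obj (op W),
        (∀ n, (π n).val.app (op W) s = (π n).val.app (op W) s') → s = s') ∧
      ∀ x : ∀ n, (F n).val.obj (op W), (∀ n, (t n).val.app (op W) (x (n + 1)) = x n) →
        ∃ s : L.val.obj (op W), ∀ n, (π n).val.app (op W) s = x n := by
  let G : AlgSp.ModEt X ⥤ Type (u + 1) :=
    (SheafOfModules.forget (AlgSp.OEtRing X) ⋙ PresheafOfModules.evaluation (AlgSp.OEtRing X).obj (op W)) ⋙
      forget _
  haveI : PreservesLimit (Functor.ofOpSequence t) G := inferInstance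
  let h := isLimitOfPreserves G hc
  constructor
  · intro s s' hs
    have h1 : G.map e.hom s = G.map e.hom s' := by
      refine (Types.isLimitEquivSections h).injective (Subtype.ext (funext fun ⟨n⟩ => ?_))
      have := hs n
      rw [← he n] at this
      exact this
    exact ((Iso.toEquiv (G.mapIso e)).injective h1)
  · intro x hx
    have hsec : ∀ {i j : ℕᵒᵖ} (f : i ⟶ j), (Functor.ofOpSequence t ⋙ G).map f (x i.unop) = x j.unop := by
      intro i j f
      obtain ⟨i⟩ := i
      obtain ⟨j⟩ := j
      obtain ⟨k, rfl⟩ : ∃ k, i = j + k := Nat.exists_eq_add_of_le (leOfHom f.unop)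
      induction k with
      | zero =>
        rw [Subsingleton.elim f (𝟙 _)]
        exact ConcreteCategory.congr_hom ((Functor.ofOpSequence t ⋙ G).map_id _) _
      | succ k ih =>
        rw [Subsingleton.elim f ((homOfLE (Nat.le_succ (j + k))).op ≫ (homOfLE (Nat.le_add_right j k)).op)]
        refine (ConcreteCategory.congr_hom ((Functor.ofOpSequence t ⋙ G).map_comp _ _) _).trans ?_
        refine (ConcreteCategory.comp_apply _ _ _).trans ?_
        refine Eq.trans ?_ (ih (homOfLE (Nat.le_add_right j k)).op)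
        refine congrArg _ ?_
        show G.map ((Functor.ofOpSequence t).map _) _ = _
        exact (congrArg (fun g => G.map g (x (j + k + 1))) (Functor.ofOpSequence_map_homOfLE_succ t (j + k))).trans
          (hx (j + k))
    obtain ⟨s, hs⟩ := (Iso.toEquiv (G.mapIso e)).surjective
      ((Types.isLimitEquivSections h).symm ⟨fun n => x n.unop, hsec⟩)
    refine ⟨s, fun n => ?_⟩
    have h2 := Types.isLimitEquivSections_symm_apply h ⟨fun n => x n.unop, hsec⟩ (op n)
    rw [← he n]
    exact (congrArg (G.map (c.π.app (op n))) hs).trans h2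

end Groth.Agent.AlgSpRlim

end
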