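import Groth.Agent.AlgSpRlim.Main
import Groth.Agent.AlgSpQC.Push
import Groth.Agent.KInj.Derived
import Groth.Agent.ASp.ChartDim

/-! Direct images along affine morphisms are conservative on objects with quasi-coherent cohomology. -/

set_option autoImplicit false
set_option linter.style.haveILetI false
set_option linter.unusedSectionVars false
set_option backward.isDefEq.respectTransparency false
set_option backward.isDefEq.respectTransparency.types false
set_option maxHeartbeats 1000000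
set_option synthInstance.maxHeartbeats 400000

universe u

open CategoryTheory Limits AlgebraicGeometry Opposite DerivedCategory Pretriangulated
open Groth.Agent.AlgSpQC Groth.Agent.AlgSpFT Groth.Agent.RlimCrit

attribute [local instance] HasDerivedCategory.standard

noncomputable section

namespace Groth.Agent.AlgSpRlim

variable {S : Scheme.{u}} {X Y : AlgSp.Sp S}

/-- Sections on the small model are morphisms from free modules. -/
def msec (U : Cs X) (N : ModSite.Mod (Os X)) :
    ((modP (ModSite.ringSh (Os X))).obj U ⟶ N) ≃ N.val.presheaf.obj (op U) :=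
  ((modFreeAdj (ModSite.ringSh (Os X))).homEquiv (yoneda.obj U) N).trans
    (yonedaEquiv (F := N.val.presheaf ⋙ forget AddCommGrpCat))

theorem msec_comp (U : Cs X) {M N : ModSite.Mod (Os X)} (x : (modP (ModSite.ringSh (Os X))).obj U ⟶ M) (e : M ⟶ N) :
    msec U N (x ≫ e) = e.val.app (op U) (msec U M x) := by
  simp only [msec, Equiv.trans_apply]
  erw [Adjunction.homEquiv_naturality_right, yonedaEquiv_comp]

theorem msec_map {U V : Cs X} (f : V ⟶ U) (M : ModSite.Mod (Os X))
    (x : (modP (ModSite.ringSh (Os X))).obj U ⟶ M) :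
    msec V M ((modP (ModSite.ringSh (Os X))).map f ≫ x) = M.val.presheaf.map f.op (msec U M x) := by
  simp only [msec, Equiv.trans_apply]
  erw [Adjunction.homEquiv_naturality_left]
  exact (yonedaEquiv_naturality ((modFreeAdj (ModSite.ringSh (Os X))).homEquiv (yoneda.obj U) M x) f).symm

/-- Sections over an object are morphisms from its free module. -/
def gsec (U : Cs X) (M : AlgSp.ModEt X) :
    ((genP X).obj U ⟶ M) ≃ M.val.presheaf.obj (op ((eqv X).functor.obj U)) :=
  ((modEquiv X).symm.toAdjunction.homEquiv _ M).trans (msec U ((modEquiv X).functor.obj M))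

theorem gsec_comp (U : Cs X) {M N : AlgSp.ModEt X} (x : (genP X).obj U ⟶ M) (e : M ⟶ N) :
    gsec U N (x ≫ e) = e.val.app (op ((eqv X).functor.obj U)) (gsec U M x) := by
  simp only [gsec, Equiv.trans_apply]
  erw [Adjunction.homEquiv_naturality_right, msec_comp]

theorem gsec_map {U V : Cs X} (f : V ⟶ U) (M : AlgSp.ModEt X) (x : (genP X).obj U ⟶ M) :
    gsec V M ((genP X).map f ≫ x) = M.val.presheaf.map ((eqv X).functor.map f).op (gsec U M x) := by
  simp only [gsec, Equiv.trans_apply]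
  erw [Adjunction.homEquiv_naturality_left, msec_map]
  rfl

theorem gsec_zero (U : Cs X) (M : AlgSp.ModEt X) : gsec U M 0 = 0 := by
  have h := gsec_comp U (0 : (genP X).obj U ⟶ M) (0 : M ⟶ M)
  rw [comp_zero] at h
  exact h.trans rfl

variable {f : X ⟶ Y} (hf : AlgSp.Representable f)

/-- Base change on the small models. -/
abbrev bcS : Cs Y ⥤ Cs X := AsSmall.down ⋙ AlgSp.EtOver.bc hf ⋙ AsSmall.up

/-- Morphisms into a direct image. -/
def tr (V : Cs Y) (M : AlgSp.ModEt X) :
    ((genP Y).obj V ⟶ (AlgSp.pushModEt hf).obj M) ≃ ((genP X).obj ((bcS hf).obj V) ⟶ M) :=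
  (gsec V ((AlgSp.pushModEt hf).obj M)).trans (gsec ((bcS hf).obj V) M).symm

theorem tr_comp (V : Cs Y) {M N : AlgSp.ModEt X} (x : (genP Y).obj V ⟶ (AlgSp.pushModEt hf).obj M) (e : M ⟶ N) :
    tr hf V N (x ≫ (AlgSp.pushModEt hf).map e) = tr hf V M x ≫ e := by
  apply (gsec ((bcS hf).obj V) N).injective
  refine (Equiv.apply_symm_apply _ _).trans ?_
  rw [gsec_comp, gsec_comp]
  exact congrArg _ (Equiv.apply_symm_apply (gsec ((bcS hf).obj V) M) _).symm

theorem tr_map {V W : Cs Y} (g : W ⟶ V) (M : AlgSp.ModEt X)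
    (x : (genP Y).obj V ⟶ (AlgSp.pushModEt hf).obj M) :
    tr hf W M ((genP Y).map g ≫ x) = (genP X).map ((bcS hf).map g) ≫ tr hf V M x := by
  apply (gsec ((bcS hf).obj W) M).injective
  refine (Equiv.apply_symm_apply _ _).trans ?_
  rw [gsec_map, gsec_map]
  exact congrArg _ (Equiv.apply_symm_apply (gsec ((bcS hf).obj V) M) _).symm

theorem tr_zero (V : Cs Y) (M : AlgSp.ModEt X) : tr hf V M 0 = 0 := by
  apply (gsec ((bcS hf).obj V) M).injective
  refine (Equiv.apply_symm_apply _ _).trans ?_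
  rw [gsec_zero, gsec_zero]

variable (haff : AlgSp.IsAffineMor f)

/-- A qc module without sections at the affine preimages vanishes on affine objects over them. -/
theorem sec_eq_zero_of_hom {H : AlgSp.ModEt X} (hH : QC H) {A B : AlgSp.EtOver X} (k : B ⟶ A) (hA : Aff X A)
    (hB : Aff X B) (h : ∀ x : H.val.obj (op A), x = 0) (s : H.val.obj (op B)) : s = 0 := by
  obtain ⟨w, rfl⟩ := (IsBC.bijective hH k hA hB).2 s
  induction w using TensorProduct.induction_on with
  | zero => exact map_zero _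
  | tmul r x =>
    refine (θ_tmul H.val k r x).trans ?_
    rw [h x]
    exact (congrArg (r • ·) (map_zero _)).trans (smul_zero r)
  | add a b ha hb =>
    exact (map_add _ a b).trans ((congrArg₂ (· + ·) ha hb).trans (add_zero 0))

include haff in
/-- A qc module without sections on preimages of affines is zero. -/
theorem isZero_of_bc_zero {H : AlgSp.ModEt X} (hH : QC H)
    (h : ∀ V ∈ affB Y, ∀ x : (genP X).obj ((bcS hf).obj V) ⟶ H, x = 0)
    (hY : AlgSp.IsAlgSpace Y) : IsZero H := by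
  have hsec : ∀ V : AlgSp.EtOver Y, Aff Y V → ∀ s : H.val.obj (op ((AlgSp.EtOver.bc hf).obj V)), s = 0 :=
    fun V hV s => by
      obtain ⟨x, rfl⟩ := (gsec ((bcS hf).obj (AsSmall.up.obj V)) H).surjective s
      rw [h (AsSmall.up.obj V) hV x, gsec_zero]
  refine (IsZero.iff_id_eq_zero _).2 ((isLocGen_genP X).det _ fun U x => ?_)
  rw [Category.comp_id]
  apply (gsec U H).injective
  rw [gsec_zero]
  let E := (eqv X).functor.obj U
  obtain ⟨U₀, p, hpe, hps⟩ := hY.atlas
  let c : (AlgSp.yon S).obj E.obj.left ⟶ Y := E.obj.hom ≫ f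
  let π : hpe.1.pullback c ⟶ E.obj.left := hpe.1.snd c
  haveI hπs : Surjective π.left := hps.2 _ _ _ (hpe.1.isPullback c)
  haveI hπe : AlgebraicGeometry.Etale π.left := hpe.2 _ _ _ (hpe.1.isPullback c)
  let q₀ : hpe.1.pullback c ⟶ U₀ := hpe.1.fst' c
  let E' : AlgSp.EtOver X := AlgSp.EtOver.mk ((AlgSp.yon S).map π ≫ E.obj.hom)
    (ASp.repWith_comp (P := @AlgebraicGeometry.Etale) (ASp.repWith_yon_map (P := @AlgebraicGeometry.Etale) (g := π) hπe) E.property)
  let V₀ : AlgSp.EtOver Y := AlgSp.EtOver.mk p hpe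
  have hpt : ∀ y : E.obj.left.left, ∃ (W : AlgSp.EtOver X) (j : W ⟶ E) (V : AlgSp.EtOver Y)
      (_ : W ⟶ (AlgSp.EtOver.bc hf).obj V), Aff X W ∧ Aff Y V ∧ y ∈ Set.range j.hom.left.left := by
    intro y
    obtain ⟨w, hw⟩ := π.left.surjective y
    obtain ⟨O, hO, hwO, -⟩ := exists_isAffineOpen_mem_and_subset (X := U₀.left) (U := ⊤) (x := q₀.left w) trivial
    obtain ⟨W, hW, hwW, hWO⟩ := exists_isAffineOpen_mem_and_subset (X := (hpe.1.pullback c).left)
      (U := q₀.left ⁻¹ᵁ O) (x := w) hwO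
    have hr : Set.range (W.ι ≫ q₀.left) ⊆ Set.range O.ι := by
      rintro _ ⟨z, rfl⟩
      exact ⟨⟨q₀.left z.1, hWO z.2⟩, rfl⟩
    let b₀ := IsOpenImmersion.lift O.ι (W.ι ≫ q₀.left) hr
    have hb₀ : b₀ ≫ O.ι = W.ι ≫ q₀.left := IsOpenImmersion.lift_fac _ _ _
    let a : (openObj E' W).obj.left ⟶ hpe.1.pullback c := (openObjHom E' W).hom.left
    let b : (openObj E' W).obj.left ⟶ (openObj V₀ O).obj.left := Over.homMk b₀ (by
      show b₀ ≫ O.ι ≫ U₀.hom = W.ι ≫ E'.obj.left.hom
      rw [reassoc_of% hb₀]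
      exact congrArg (W.ι ≫ ·) (Over.w q₀))
    have hab : b ≫ (openObjHom V₀ O).hom.left = a ≫ q₀ := Over.OverMorphism.ext hb₀
    have hq : (AlgSp.yon S).map q₀ ≫ p = (AlgSp.yon S).map π ≫ c :=
      (congrArg (· ≫ p) (Functor.relativelyRepresentable.map_fst' hpe.1 c)).trans (hpe.1.isPullback c).w
    have hsq : (openObj E' W).obj.hom ≫ f = (AlgSp.yon S).map b ≫ (openObj V₀ O).obj.hom := by
      have e1 : (openObj E' W).obj.hom = (AlgSp.yon S).map a ≫ ((AlgSp.yon S).map π ≫ E.obj.hom) := rfl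
      have e2 : (openObj V₀ O).obj.hom = (AlgSp.yon S).map (openObjHom V₀ O).hom.left ≫ p := rfl
      have h3 : (AlgSp.yon S).map a ≫ ((AlgSp.yon S).map q₀ ≫ p) =
          (AlgSp.yon S).map b ≫ ((AlgSp.yon S).map (openObjHom V₀ O).hom.left ≫ p) :=
        (Functor.map_comp_assoc _ _ _ _).symm.trans ((congrArg (fun z => (AlgSp.yon S).map z ≫ p) hab.symm).trans
          (Functor.map_comp_assoc _ _ _ _))
      exact ((congrArg (· ≫ f) e1).trans (((Category.assoc _ _ _).trans (congrArg ((AlgSp.yon S).map a ≫ ·)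
        ((Category.assoc _ _ _).trans hq.symm))).trans h3)).trans (congrArg ((AlgSp.yon S).map b ≫ ·) e2.symm)
    obtain ⟨l, hl⟩ := (AlgSp.yon S).map_surjective
      ((hf.isPullback (openObj V₀ O).obj.hom).lift (openObj E' W).obj.hom ((AlgSp.yon S).map b) hsq)
    refine ⟨openObj E' W, AlgSp.EtOver.homMk (a ≫ π) ?_, openObj V₀ O, AlgSp.EtOver.homMk l ?_,
      aff_openObj E' hW, aff_openObj V₀ hO, ⟨⟨w, hwW⟩, hw⟩⟩
    · show (AlgSp.yon S).map (a ≫ π) ≫ E.obj.hom = (openObj E' W).obj.hom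
      rw [Functor.map_comp, Category.assoc]
      rfl
    · show (AlgSp.yon S).map l ≫ hf.fst (openObj V₀ O).obj.hom = (openObj E' W).obj.hom
      rw [hl]
      exact IsPullback.lift_fst _ _ _ _
  choose W j V k hW hV hy using hpt
  refine ((isSheaf_iff_isSheaf_of_type _ _).1
    ((sheafCompose (AlgSp.etTop X) (forget AddCommGrpCat.{u + 1})).obj ((SheafOfModules.toSheaf _).obj H)).property
    _ (AlgSp.ofArrows_mem_etTop W j fun y => ⟨y, hy y⟩)).isSeparatedFor.ext fun Z g hg => ?_
  obtain ⟨y, r, rfl⟩ := (Sieve.mem_ofArrows_iff _ _ _).1 hg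
  show H.val.presheaf.map (r ≫ j y).op _ = H.val.presheaf.map (r ≫ j y).op _
  rw [op_comp, Functor.map_comp, ConcreteCategory.comp_apply, ConcreteCategory.comp_apply]
  refine congrArg _ ?_
  exact (sec_eq_zero_of_hom hH (k y) (aff_bc hf haff (hV y)) (hW y) (hsec _ (hV y)) _).trans
    (map_zero (H.val.presheaf.map (j y).op).hom).symm

theorem comp_homologyπ_eq_zero {A : Type*} [Category A] [Abelian A] (I : CochainComplex A ℤ) (q : ℤ) {M N : A}
    (m : N ⟶ M) (y : M ⟶ I.cycles q) (t : N ⟶ I.X (q - 1)) (h : t ≫ I.d (q - 1) q = m ≫ y ≫ I.iCycles q) :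
    m ≫ y ≫ I.homologyπ q = 0 := by
  have h' : m ≫ y = t ≫ I.toCycles (q - 1) q := by
    rw [← cancel_mono (I.iCycles q), Category.assoc, Category.assoc, HomologicalComplex.toCycles_i, h]
  rw [← Category.assoc, h', Category.assoc, HomologicalComplex.toCycles_comp_homologyπ, comp_zero]

/-- A class on a preimage is zero if the direct image complex is exact. -/
theorem comp_homologyπ_of_exact (I : CochainComplex (AlgSp.ModEt X) ℤ) {q : ℤ}
    (hI : (((AlgSp.pushModEt hf).mapHomologicalComplex (ComplexShape.up ℤ)).obj I).ExactAt q) {V : Cs Y}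
    (y : (genP X).obj ((bcS hf).obj V) ⟶ I.cycles q) : y ≫ I.homologyπ q = 0 := by
  let P := ((AlgSp.pushModEt hf).mapHomologicalComplex (ComplexShape.up ℤ)).obj I
  let z := (tr hf V (I.X q)).symm (y ≫ I.iCycles q)
  have hz : z ≫ P.d q (q + 1) = 0 := by
    apply (tr hf V (I.X (q + 1))).injective
    refine (tr_comp hf V z (I.d q (q + 1))).trans ?_
    rw [tr_zero, Equiv.apply_symm_apply, Category.assoc, HomologicalComplex.iCycles_d, comp_zero]
  haveI : Epi (P.toCycles (q - 1) q) := by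
    let T := ShortComplex.mk (P.toCycles (q - 1) q) (P.homologyπ q) (P.toCycles_comp_homologyπ _ _)
    have hT : T.Exact := ShortComplex.exact_of_g_is_cokernel _ (P.homologyIsCokernel _ _ (by simp))
    exact hT.epi_f (hI.isZero_homology.eq_of_tgt _ _)
  have hz' : z ≫ P.d q ((ComplexShape.up ℤ).next q) = 0 := by
    rw [CochainComplex.next]; exact hz
  let zc := P.liftCycles z (q + 1) (by simp) hz
  obtain ⟨T, hT, hl⟩ := (isLocGen_genP Y).lift (P.toCycles (q - 1) q) zc
  apply (tr hf V (I.homology q)).symm.injective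
  have h0 : (tr hf V (I.homology q)).symm 0 = 0 := by
    apply (tr hf V (I.homology q)).injective
    rw [Equiv.apply_symm_apply, tr_zero]
  rw [h0]
  refine (isLocGen_genP Y).sep _ T hT fun W g hg => ?_
  apply (tr hf W (I.homology q)).injective
  rw [tr_map, Equiv.apply_symm_apply, tr_zero]
  obtain ⟨y₁, hy₁⟩ := hl g hg
  have hd : y₁ ≫ P.d (q - 1) q = (genP Y).map g ≫ z := by
    have := congrArg (· ≫ P.iCycles q) hy₁
    simpa [zc] using this
  have hd' : tr hf W (I.X (q - 1)) y₁ ≫ I.d (q - 1) q = (genP X).map ((bcS hf).map g) ≫ y ≫ I.iCycles q :=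
    (tr_comp hf W y₁ (I.d (q - 1) q)).symm.trans ((congrArg (tr hf W (I.X q)) hd).trans
      ((tr_map hf g (I.X q) z).trans (congrArg ((genP X).map ((bcS hf).map g) ≫ ·) (Equiv.apply_symm_apply _ _))))
  exact comp_homologyπ_eq_zero I q _ y _ hd'

include haff in
/-- An object with quasi-coherent cohomology whose K-injective model has exact direct image is zero. -/
theorem isZero_homology_of_exact (C : AlgSp.DModEt X) (hC : DCoh.IsQCohDMod (AlgSp.OEtRing X) C)
    (hY : AlgSp.IsAlgSpace Y) (I : CochainComplex (AlgSp.ModEt X) ℤ) [I.IsKInjective] (e : Q.obj I ≅ C)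
    (hI : ∀ i, (((AlgSp.pushModEt hf).mapHomologicalComplex (ComplexShape.up ℤ)).obj I).ExactAt i) (q : ℤ) :
    IsZero ((homologyFunctor (AlgSp.ModEt X) q).obj C) := by
  refine isZero_of_bc_zero hf haff (qc_homology hC q) (fun V hV x => ?_) hY
  obtain ⟨ξ, rfl⟩ := (cl_bijective_qc C hC (U := (bcS hf).obj V) (aff_bc hf haff hV) q).2 x
  obtain ⟨φh, hφh⟩ := (CochainComplex.IsKInjective.Qh_map_bijective
    ((HomotopyCategory.quotient _ _).obj ((HomologicalComplex.single _ (ComplexShape.up ℤ) q).obj ((genP X).obj ((bcS hf).obj V)))) I).2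
    (((quotientCompQhIso _).hom.app _) ≫ ξ ≫ e.inv ≫ (quotientCompQhIso _).inv.app I)
  obtain ⟨φ, rfl⟩ := (HomotopyCategory.quotient _ _).map_surjective φh
  have hξ : ξ = Q.map φ ≫ e.hom := by
    have h1 := (quotientCompQhIso (AlgSp.ModEt X)).hom.naturality φ
    have h2 : Qh.map ((HomotopyCategory.quotient _ _).map φ) ≫ (quotientCompQhIso _).hom.app I =
      (quotientCompQhIso _).hom.app _ ≫ Q.map φ := h1
    rw [hφh, Category.assoc, Category.assoc, Category.assoc, Iso.inv_hom_id_app] at h2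
    rw [← (cancel_epi ((quotientCompQhIso (AlgSp.ModEt X)).hom.app _)).1 h2]
    simp
  rw [hξ, cl_comp]
  suffices cl (Q.map φ) = 0 by rw [this, zero_comp]
  rw [cl_Q_map]
  let y : (genP X).obj ((bcS hf).obj V) ⟶ I.cycles q :=
    (HomologicalComplex.singleObjCyclesSelfIso (ComplexShape.up ℤ) q _).inv ≫ HomologicalComplex.cyclesMap φ q
  show y ≫ I.homologyπ q ≫ _ = 0
  suffices y ≫ I.homologyπ q = 0 by rw [← Category.assoc, this, zero_comp]
  exact comp_homologyπ_of_exact hf I (hI q) y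

/-- An object between quasi-coherent modules in an exact sequence is quasi-coherent. -/
theorem qc_of_exact₅ {A B M C D : AlgSp.ModEt X} (a : A ⟶ B) (u : B ⟶ M) (v : M ⟶ C) (b : C ⟶ D)
    (w₁ : a ≫ u = 0) (w₂ : u ≫ v = 0) (w₃ : v ≫ b = 0) (h₁ : (ShortComplex.mk a u w₁).Exact)
    (h₂ : (ShortComplex.mk u v w₂).Exact) (h₃ : (ShortComplex.mk v b w₃).Exact)
    (hA : QC A) (hB : QC B) (hC : QC C) (hD : QC D) : QC M := by
  haveI : Mono (cokernel.desc a u w₁) := h₁.mono_cokernelDesc
  haveI : Epi (kernel.lift b v w₃) := h₃.epi_kernelLift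
  let T : ShortComplex (AlgSp.ModEt X) := ShortComplex.mk (cokernel.desc a u w₁) (kernel.lift b v w₃) (by
    rw [← cancel_epi (cokernel.π a), ← cancel_mono (kernel.ι b)]; simp [w₂])
  let T' : ShortComplex (AlgSp.ModEt X) := ShortComplex.mk (cokernel.desc a u w₁) v (by
    rw [← cancel_epi (cokernel.π a)]; simp [w₂])
  let φ : ShortComplex.mk u v w₂ ⟶ T' :=
    { τ₁ := cokernel.π a, τ₂ := 𝟙 _, τ₃ := 𝟙 _, comm₁₂ := by simp [T'], comm₂₃ := by simp [T'] }
  haveI : Epi φ.τ₁ := inferInstanceAs (Epi (cokernel.π a))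
  haveI : IsIso φ.τ₂ := inferInstanceAs (IsIso (𝟙 M))
  haveI : Mono φ.τ₃ := inferInstanceAs (Mono (𝟙 C))
  have hT' : T'.Exact := (ShortComplex.exact_iff_of_epi_of_isIso_of_mono φ).1 h₂
  let ψ : T ⟶ T' :=
    { τ₁ := 𝟙 _, τ₂ := 𝟙 _, τ₃ := kernel.ι b, comm₁₂ := by simp [T, T'], comm₂₃ := by simp [T, T'] }
  haveI : Epi ψ.τ₁ := inferInstanceAs (Epi (𝟙 (cokernel a)))
  haveI : IsIso ψ.τ₂ := inferInstanceAs (IsIso (𝟙 M))
  haveI : Mono ψ.τ₃ := inferInstanceAs (Mono (kernel.ι b))
  exact qc_ext T (ShortComplex.ShortExact.mk' ((ShortComplex.exact_iff_of_epi_of_isIso_of_mono ψ).2 hT')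
    inferInstance inferInstance) (qc_cokernel a hA hB) (qc_kernel b hC hD)

/-- Cones of objects with quasi-coherent cohomology have quasi-coherent cohomology. -/
theorem qc_cone (T : Triangle (AlgSp.DModEt X)) (hT : T ∈ distTriang _)
    (hE : DCoh.IsQCohDMod (AlgSp.OEtRing X) T.obj₁) (hF : DCoh.IsQCohDMod (AlgSp.OEtRing X) T.obj₂) :
    DCoh.IsQCohDMod (AlgSp.OEtRing X) T.obj₃ := fun i => (isQuasicoherent_iff _).2 <| by
  have h₁ := HomologySequence.exact₂ T hT i
  have h₂ := HomologySequence.exact₃ T hT i (i + 1) rfl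
  have h₃ := HomologySequence.exact₁ T hT i (i + 1) rfl
  exact qc_of_exact₅ _ _ _ _ _ _ _ h₁ h₂ h₃ (qc_homology hE i) (qc_homology hF i) (qc_homology hE (i + 1))
    (qc_homology hF (i + 1))

/-- If the derived functor inverts the first map of a triangle, it makes the model of the cone exact. -/
theorem exact_model_of_isIso {A : Type*} [Category A] [Abelian A] {B : Type*} [Category B] [Abelian B]
    [HasDerivedCategory A] [HasDerivedCategory B]
    (hres : ∀ K : CochainComplex A ℤ, ∃ (I : CochainComplex A ℤ) (f : K ⟶ I), I.IsKInjective ∧ QuasiIso f)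
    (F : A ⥤ B) [F.Additive]
    [(F.mapHomotopyCategory (ComplexShape.up ℤ) ⋙ DerivedCategory.Qh).HasRightDerivedFunctor
      (HomotopyCategory.quasiIso A (ComplexShape.up ℤ))]
    (T : Triangle (DerivedCategory A)) (hT : T ∈ distTriang _)
    (h : IsIso (((F.mapHomotopyCategory (ComplexShape.up ℤ) ⋙ DerivedCategory.Qh).totalRightDerived
      DerivedCategory.Qh (HomotopyCategory.quasiIso A (ComplexShape.up ℤ))).map T.mor₁)) (i : ℤ) :
    ((F.mapHomologicalComplex (ComplexShape.up ℤ)).obj (KInj.model hres T.obj₃)).ExactAt i := by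
  let Φ := F.mapHomotopyCategory (ComplexShape.up ℤ) ⋙ DerivedCategory.Qh
  let RF := Φ.totalRightDerived DerivedCategory.Qh (HomotopyCategory.quasiIso A (ComplexShape.up ℤ))
  let adj := KInj.qhAdjunction hres
  let R := KInj.rightAdj hres
  letI : R.CommShift ℤ := adj.rightAdjointCommShift ℤ
  haveI : adj.CommShift ℤ := adj.commShift_of_leftAdjoint ℤ
  haveI : R.IsTriangulated := adj.isTriangulated_rightAdjoint
  let G := R ⋙ F.mapHomotopyCategory (ComplexShape.up ℤ) ⋙ DerivedCategory.Qh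
  let e : RF ≅ G := Functor.rightDerivedUnique RF (R ⋙ Φ)
    (Φ.totalRightDerivedUnit DerivedCategory.Qh (HomotopyCategory.quasiIso A (ComplexShape.up ℤ)))
    (KInj.derivedUnit hres Φ) (HomotopyCategory.quasiIso A (ComplexShape.up ℤ))
  haveI : IsIso (G.map T.mor₁) := (NatIso.isIso_map_iff e T.mor₁).1 h
  have hz : IsZero (G.obj T.obj₃) :=
    (Triangle.isZero₃_iff_isIso₁ _ (G.map_distinguished T hT)).2 (inferInstanceAs (IsIso (G.map T.mor₁)))
  let P := (F.mapHomologicalComplex (ComplexShape.up ℤ)).obj (KInj.model hres T.obj₃)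
  rw [HomologicalComplex.exactAt_iff_isZero_homology]
  exact IsZero.of_iso ((homologyFunctor B i).map_isZero hz)
    (((homologyFunctorFactors B i).app P).symm ≪≫
      (homologyFunctor B i).mapIso (((quotientCompQhIso _).app P).symm ≪≫
        (DerivedCategory.Qh.mapIso ((F.mapHomotopyCategoryFactors (ComplexShape.up ℤ)).app
          (KInj.model hres T.obj₃))).symm))

/-- An object without cohomology is zero. -/
theorem isZero_of_homology {A : Type*} [Category A] [Abelian A] [HasDerivedCategory A] (C : DerivedCategory A)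
    (h : ∀ i, IsZero ((homologyFunctor A i).obj C)) : IsZero C := by
  haveI : IsIso (0 : C ⟶ C) := (DerivedCategory.isIso_iff _ _).2 fun i => by
    rw [Functor.map_zero]
    exact (isIsoZeroEquiv _ _).symm ⟨(h i).eq_of_src _ _, (h i).eq_of_src _ _⟩
  exact (IsZero.iff_id_eq_zero _).2 ((isIsoZeroEquiv C C) inferInstance).1

include haff in
/-- Direct image along an affine morphism reflects isomorphisms. -/
theorem isIso_of_isIso_rpush (hY : AlgSp.IsAlgSpace Y) [AlgSp.HasRpushModEtD hf] {E F : AlgSp.DModEt X}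
    (hE : DCoh.IsQCohDMod (AlgSp.OEtRing X) E) (hF : DCoh.IsQCohDMod (AlgSp.OEtRing X) F) (α : E ⟶ F)
    (hα : IsIso ((AlgSp.RpushModEtD hf).map α)) : IsIso α := by
  haveI := isGrothendieckAbelian_modEt X
  obtain ⟨C, g, δ, hT⟩ := distinguished_cocone_triangle α
  have hC := qc_cone _ hT hE hF
  let hres := KInj.hres_of_isGrothendieckAbelian (AlgSp.ModEt X)
  have hP := exact_model_of_isIso hres (AlgSp.pushModEt hf) _ hT hα
  let eC : Q.obj (KInj.model hres C) ≅ C := ((quotientCompQhIso _).app (KInj.model hres C)).symm ≪≫ KInj.modelIso hres C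
  exact (Triangle.isZero₃_iff_isIso₁ _ hT).1
    (isZero_of_homology C fun q => isZero_homology_of_exact hf haff C hC hY (KInj.model hres C) eC hP q)

end Groth.Agent.AlgSpRlim

end
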