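import Groth.Agent.AlgSpRlim.Main
import Groth.Agent.RFBoundLib.Main

/-! Bounds for derived functors on objects with quasi-coherent cohomology on the small étale site. -/

set_option autoImplicit false
set_option linter.style.haveILetI false
set_option linter.unusedSectionVars false
set_option backward.isDefEq.respectTransparency false
set_option backward.isDefEq.respectTransparency.types false
set_option maxHeartbeats 1000000
set_option synthInstance.maxHeartbeats 400000

universe u

open CategoryTheory Limits AlgebraicGeometry Opposite DerivedCategory Pretriangulated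
open Groth.Agent.AlgSpQC

attribute [local instance] HasDerivedCategory.standard

noncomputable section

namespace Groth.Agent.AlgSpRlim

variable {S : Scheme.{u}} {X : AlgSp.Sp S}

theorem qc_of_iso {M N : AlgSp.ModEt X} (e : M ≅ N) (h : QC M) : QC N :=
  haveI : M.IsQuasicoherent := (isQuasicoherent_iff M).2 h
  (isQuasicoherent_iff N).1 ((SheafOfModules.isQuasicoherent (AlgSp.OEtRing X)).prop_of_iso e this)

theorem qc_of_isZero {M : AlgSp.ModEt X} (h : QC M) {Z : AlgSp.ModEt X} (hZ : IsZero Z) : QC Z :=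
  qc_of_iso ((isZero_kernel_of_mono (𝟙 M)).iso hZ) (qc_kernel (𝟙 M) h h)

variable (F : AlgSp.ModEt X ⥤ AddCommGrpCat.{u + 1}) [F.Additive]
    [EnoughInjectives (AlgSp.ModEt X)]
    [(F.mapHomotopyCategory (ComplexShape.up ℤ) ⋙ DerivedCategory.Qh).HasRightDerivedFunctor
      (HomotopyCategory.quasiIso (AlgSp.ModEt X) (ComplexShape.up ℤ))]

local notation "RF" => Functor.totalRightDerived (Functor.mapHomotopyCategory F (ComplexShape.up ℤ) ⋙ DerivedCategory.Qh)
  DerivedCategory.Qh (HomotopyCategory.quasiIso (AlgSp.ModEt X) (ComplexShape.up ℤ))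

theorem rf_lower (E : AlgSp.DModEt X) (a : ℤ)
    (h : ∀ i : ℤ, i < a → IsZero (DCoh.HDMod (AlgSp.OEtRing X) E i)) (i : ℤ) (hi : i < a) :
    IsZero ((homologyFunctor AddCommGrpCat.{u + 1} i).obj ((RF).obj E)) := by
  haveI := isGrothendieckAbelian_modEt X
  haveI : E.IsGE a := (isGE_iff _ _).2 h
  exact RFBoundLib.isZero_of_isGE' F E a i hi

variable [PreservesLimitsOfShape (Discrete ℕ) F] (N : ℕ)
  (hF : ∀ G : AlgSp.ModEt X, G.IsQuasicoherent → ∀ p : ℕ, N ≤ p → IsZero ((F.rightDerived p).obj G))

include hF in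
theorem rf_upper (E : AlgSp.DModEt X) (hE : DCoh.IsQCohDMod (AlgSp.OEtRing X) E) (b : ℤ)
    (h : ∀ i : ℤ, b < i → IsZero (DCoh.HDMod (AlgSp.OEtRing X) E i)) (i : ℤ) (hi : b + N - 1 < i) :
    IsZero ((homologyFunctor AddCommGrpCat.{u + 1} i).obj ((RF).obj E)) := by
  haveI := isGrothendieckAbelian_modEt X
  haveI := hasProducts_DModEt X
  haveI : HasProductsOfShape ℕ (AlgSp.ModEt X) := inferInstance
  haveI : HasProduct (CohCx.truncTower E) := inferInstance
  haveI : E.IsLE b := (isLE_iff _ _).2 h
  exact RFBoundLib.isZero_of_isLE' F QC (fun e h => qc_of_iso e h)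
    (fun Z hZ => qc_of_isZero (qc_homology hE 0) hZ) N
    (fun G hG => hF G ((isQuasicoherent_iff G).2 hG)) E b (isRlimVia_trunc E hE) (qc_homology hE) i hi

include hF in
theorem rf_trunc (E : AlgSp.DModEt X) (hE : DCoh.IsQCohDMod (AlgSp.OEtRing X) E) (b i : ℤ) (hi : b ≤ i) :
    IsIso ((homologyFunctor AddCommGrpCat.{u + 1} i).map ((RF).map
      (((DerivedCategory.TStructure.t : Triangulated.TStructure (AlgSp.DModEt X)).truncGEπ (b - N + 1)).app E))) := by
  haveI := isGrothendieckAbelian_modEt X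
  let t : Triangulated.TStructure (AlgSp.DModEt X) := DerivedCategory.TStructure.t
  let c : ℤ := b - N + 1
  let L := (t.truncLT c).obj E
  haveI : L.IsLE (c - 1) := t.isLE_truncLT_obj E c (c - 1) (by omega)
  have hL : DCoh.IsQCohDMod (AlgSp.OEtRing X) L := fun j => (isQuasicoherent_iff _).2 (by
    by_cases hj : j ≤ c - 1
    · haveI := DCohLib.isIso_homology_truncLTι E c j (by omega)
      exact qc_of_iso (asIso ((homologyFunctor _ j).map ((t.truncLTι c).app E))).symm (qc_homology hE j)
    · exact qc_of_isZero (qc_homology hE 0) (isZero_of_isLE L (c - 1) j (by omega)))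
  have hz : ∀ k : ℤ, b ≤ k → IsZero ((homologyFunctor AddCommGrpCat.{u + 1} k).obj ((RF).obj L)) := fun k hk =>
    rf_upper F N hF L hL (c - 1) (fun j hj => isZero_of_isLE L (c - 1) j hj) k (by omega)
  obtain ⟨-, hepi, hmono⟩ := RFBoundLib.rf_triangle F _ (t.triangleLTGE_distinguished c E) i (i + 1) rfl
  haveI : Epi ((homologyFunctor AddCommGrpCat.{u + 1} i).map ((RF).map ((t.truncGEπ c).app E))) :=
    hepi (hz (i + 1) (by omega))
  haveI : Mono ((homologyFunctor AddCommGrpCat.{u + 1} i).map ((RF).map ((t.truncGEπ c).app E))) :=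
    hmono (hz i hi)
  exact isIso_of_mono_of_epi _

end Groth.Agent.AlgSpRlim

end
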