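import Groth.Agent.AlgSpRlim.Main
import Groth.Agent.SiteBase.AcyclicPush
import Groth.Agent.SiteBase.ModCoh

/-! Acyclicity on affine objects in the derived category of the slice site. -/

set_option autoImplicit false
set_option linter.style.haveILetI false
set_option linter.unusedSectionVars false
set_option backward.isDefEq.respectTransparency false
set_option backward.isDefEq.respectTransparency.types false
set_option maxHeartbeats 1000000
set_option synthInstance.maxHeartbeats 400000

universe u

open CategoryTheory Limits AlgebraicGeometry Opposite Abelian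
open Groth.Agent.AlgSpQC Groth.Agent.AlgSpFT Groth.Agent.RlimCrit Groth.Agent.CohColim

noncomputable section

namespace Groth.Agent.AlgSpRlim

variable {S : Scheme.{u}} {X : AlgSp.Sp S} (U : AlgSp.EtOver X)

/-- The object of the small model. -/
abbrev upObj : Cs X := AsSmall.up.obj U

/-- The small model of the slice site. -/
abbrev eqvOn : Over (upObj U) ≌ Over U := Over.postEquiv (upObj U) (eqv X)

theorem post_cocont {C : Type*} [Category C] {D : Type*} [Category D] (J : GrothendieckTopology C)
    (K : GrothendieckTopology D) (F : C ⥤ D) (A : C) [F.IsCocontinuous J K] :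
    (Over.post (X := A) F).IsCocontinuous (J.over A) (K.over (F.obj A)) := inferInstance

theorem map_cocont {C : Type*} [Category C] (J : GrothendieckTopology C) {A B : C} (f : A ⟶ B) :
    (Over.map f).IsCocontinuous (J.over A) (J.over B) := inferInstance

theorem isCocontinuous_eqvOn_functor :
    (eqvOn U).functor.IsCocontinuous ((Js X).over (upObj U)) ((AlgSp.etTop X).over U) := by
  haveI : (eqv X).functor.IsCocontinuous (Js X) (AlgSp.etTop X) := inferInstance
  exact post_cocont (Js X) (AlgSp.etTop X) (eqv X).functor (upObj U)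

theorem isCocontinuous_eqvOn_inverse :
    (eqvOn U).inverse.IsCocontinuous ((AlgSp.etTop X).over U) ((Js X).over (upObj U)) := by
  haveI := isDenseSubsite_inverse X
  haveI : (eqv X).inverse.IsCocontinuous (AlgSp.etTop X) (Js X) := inferInstance
  haveI h₁ := post_cocont (AlgSp.etTop X) (Js X) (eqv X).inverse ((eqv X).functor.obj (upObj U))
  haveI h₂ : (Over.map ((eqv X).unitIso.inv.app (upObj U))).IsCocontinuous
      ((Js X).over ((eqv X).inverse.obj ((eqv X).functor.obj (upObj U)))) ((Js X).over (upObj U)) :=
    map_cocont (Js X) ((eqv X).unitIso.inv.app (upObj U))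
  exact isCocontinuous_comp (Over.post (X := (eqv X).functor.obj (upObj U)) (eqv X).inverse)
    (Over.map ((eqv X).unitIso.inv.app (upObj U))) ((AlgSp.etTop X).over ((eqv X).functor.obj (upObj U)))
    ((Js X).over ((eqv X).inverse.obj ((eqv X).functor.obj (upObj U))))

instance isContinuous_eqvOn_functor :
    (eqvOn U).functor.IsContinuous ((Js X).over (upObj U)) ((AlgSp.etTop X).over U) := by
  haveI := isCocontinuous_eqvOn_inverse U
  exact (eqvOn U).symm.toAdjunction.isContinuous_of_isCocontinuous (F := (eqvOn U).inverse) _ _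

instance isContinuous_eqvOn_inverse :
    (eqvOn U).inverse.IsContinuous ((AlgSp.etTop X).over U) ((Js X).over (upObj U)) := by
  haveI := isCocontinuous_eqvOn_functor U
  exact (eqvOn U).toAdjunction.isContinuous_of_isCocontinuous (F := (eqvOn U).functor) _ _

/-- Modules on the slice site are modules on its small model. -/
def modEquivOn : AlgSp.ModEtOn U ≌ ModSite.Mod ((Os X).over (upObj U)) :=
  SheafOfModules.pushforwardPushforwardEquivalence (eqvOn U) (𝟙 (ModSite.ringSh ((Os X).over (upObj U))))
    ⟨{ app := fun V => 𝟙 ((AlgSp.OEtOn U).obj.obj V), naturality := fun V W i => by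
        exact (Category.comp_id _).trans (Category.id_comp _).symm }⟩
    (by
      ext V : 2
      refine Eq.trans ?_ (Category.id_comp _).symm
      exact (AlgSp.OEtOn U).obj.map_id _)
    (by
      ext V : 2
      refine Eq.trans (Category.id_comp _) ((Category.id_comp _).trans ?_)
      exact (AlgSp.OEtOn U).obj.map_id _)

instance : (modEquivOn U).functor.Additive := Functor.additive_of_preserves_binary_products _

variable {U}

/-- Modules acyclic on an affine object have no higher extensions from the unit on its slice. -/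
theorem subsingleton_ext_unit_slice [HasExt.{u + 1} (AlgSp.ModEt X)] [HasExt.{u + 1} (AlgSp.ModEtOn U)]
    (L : AlgSp.ModEt X) (n : ℕ) (h : Subsingleton (Ext.{u + 1} ((genP X).obj (upObj U)) L n)) :
    Subsingleton (Ext.{u + 1} (SheafOfModules.unit (AlgSp.OEtOn U)) ((AlgSp.resModEt U).obj L) n) := by
  haveI : IsGrothendieckAbelian.{u + 1} (ModSite.Mod (Os X)) := ModTensor.isGrothendieckAbelian_mod _
  haveI : IsGrothendieckAbelian.{u + 1} (ModSite.Mod ((Os X).over (upObj U))) := ModTensor.isGrothendieckAbelian_mod _
  haveI : HasExt.{u + 1} (ModSite.Mod (Os X)) := inferInstance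
  haveI : HasExt.{u + 1} (ModSite.Mod ((Os X).over (upObj U))) := inferInstance
  let e : (modEquiv X).functor.obj ((genP X).obj (upObj U)) ≅ (modP (ModSite.ringSh (Os X))).obj (upObj U) :=
    (modEquiv X).counitIso.app _
  haveI : Subsingleton (Ext.{u + 1} ((modEquiv X).functor.obj ((genP X).obj (upObj U)))
      ((modEquiv X).functor.obj L) n) :=
    (bijective_mapExt_of_isEquivalence (modEquiv X).functor ((genP X).obj (upObj U)) L n).2.subsingleton
  haveI := subsingleton_HU_of_ext_mod (ModSite.ringSh (Os X)) (upObj U) ((modEquiv X).functor.obj L) n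
    (Function.Injective.subsingleton (f := fun x => (Ext.mk₀ e.hom).comp x (zero_add n))
      fun x y h => by simpa using congrArg (fun z => (Ext.mk₀ e.inv).comp z (zero_add n)) h)
  obtain ⟨eH⟩ := SiteBase.nonempty_HU_over (Js X) (upObj U) (ModSite.toAb ((modEquiv X).functor.obj L)) n
  obtain ⟨eE⟩ := SiteBase.nonempty_ext_unit_H (ModSite.ringSh ((Os X).over (upObj U)))
    ((modEquivOn U).functor.obj ((AlgSp.resModEt U).obj L)) n
  haveI : Subsingleton (Ext.{u + 1} ((modEquivOn U).functor.obj (SheafOfModules.unit (AlgSp.OEtOn U)))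
      ((modEquivOn U).functor.obj ((AlgSp.resModEt U).obj L)) n) :=
    (eE.trans eH.symm).toEquiv.subsingleton
  exact (bijective_mapExt_of_isEquivalence (modEquivOn U).functor (SheafOfModules.unit (AlgSp.OEtOn U))
    ((AlgSp.resModEt U).obj L) n).1.subsingleton

end Groth.Agent.AlgSpRlim

end

noncomputable section

attribute [local instance] HasDerivedCategory.standard

namespace Groth.Agent.AlgSpRlim

open CategoryTheory Limits AlgebraicGeometry Opposite Abelian

variable {S : Scheme.{u}} {X : AlgSp.Sp S} {U : AlgSp.EtOver X}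

theorem hasExt_modEtOn : HasExt.{u + 1} (AlgSp.ModEtOn U) := by
  haveI : IsGrothendieckAbelian.{u + 1} (ModSite.Mod ((Os X).over (upObj U))) := ModTensor.isGrothendieckAbelian_mod _
  haveI : IsGrothendieckAbelian.{u + 1} (AlgSp.ModEtOn U) := IsGrothendieckAbelian.of_equivalence (modEquivOn U).symm
  infer_instance

/-- Acyclic modules have no higher cohomology in the derived category of the slice. -/
theorem subsingleton_HEtDOn [HasExt.{u + 1} (AlgSp.ModEt X)] (L : AlgSp.ModEt X) (n : ℕ)
    (h : Subsingleton (Ext.{u + 1} ((genP X).obj (upObj U)) L n)) :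
    Subsingleton (AlgSp.HEtDOn U (DCoh.inDMod (AlgSp.OEtRing X) L) (n : ℤ)) := by
  haveI := hasExt_modEtOn (U := U)
  haveI := subsingleton_ext_unit_slice (U := U) L n h
  let e : (DerivedCategory.singleFunctor (AlgSp.ModEtOn U) 0).obj ((AlgSp.resModEt U).obj L) ≅
      (AlgSp.resDEt U).obj (DCoh.inDMod (AlgSp.OEtRing X) L) :=
    (((AlgSp.resModEt U).mapDerivedCategorySingleFunctor 0).app L).symm
  exact (((shiftFunctor (DCoh.DMod (AlgSp.OEtOn U)) (n : ℤ)).mapIso e).homToEquiv.symm.trans
    (Ext.homEquiv (X := SheafOfModules.unit (AlgSp.OEtOn U))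
      (Y := (AlgSp.resModEt U).obj L) (n := n)).symm).subsingleton

end Groth.Agent.AlgSpRlim

end
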