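import Groth.Agent.AlgSpVan.Main
import Groth.Agent.RlimCrit.Instances
import Groth.Prelude.Def_AlgSpD
import Mathlib.CategoryTheory.Sites.Equivalence

/-! A small model of the small étale site of an algebraic space, with its quasi-coherent vanishing. -/

set_option autoImplicit false
set_option linter.style.haveILetI false
set_option linter.unusedSectionVars false
set_option backward.isDefEq.respectTransparency false
set_option backward.isDefEq.respectTransparency.types false
set_option maxHeartbeats 1000000
set_option synthInstance.maxHeartbeats 400000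

universe u w v v' u' w'

open CategoryTheory Limits AlgebraicGeometry Opposite Abelian
open Groth.Agent.AlgSpQC Groth.Agent.AlgSpFT Groth.Agent.CohColim Groth.Agent.AlgSpVan

noncomputable section

namespace Groth.Agent.AlgSpRlim

section General

variable {C : Type u} [SmallCategory C] {J : GrothendieckTopology C}

/-- If cocycles of an injective resolution are coboundaries over an object, the image of the resolved
object under an equivalence has no cohomology there. -/
theorem subsingleton_HU_of_sections {A : Type u'} [Category.{v'} A] [Abelian A] [HasExt.{w'} A]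
    (φ : A ⥤ Sheaf J AddCommGrpCat.{u}) [φ.Additive] [φ.IsEquivalence]
    {F : A} (R : InjectiveResolution F) (n : ℕ) (U : C)
    (h : ∀ s : (φ.obj (R.cocomplex.X (n + 1))).obj.obj (op U),
      (φ.map (R.cocomplex.d (n + 1) (n + 2))).hom.app (op U) s = 0 →
      ∃ t : (φ.obj (R.cocomplex.X n)).obj.obj (op U), (φ.map (R.cocomplex.d n (n + 1))).hom.app (op U) t = s) :
    Subsingleton (CohSite.HU (φ.obj F) (n + 1) U) := by
  let P := φ.objPreimage (SiteBase.freeAb J U)
  let e : φ.obj P ≅ SiteBase.freeAb J U := φ.objObjPreimageIso _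
  haveI hz : Subsingleton (Ext.{w'} P F (n + 1)) := subsingleton_of_forall_eq 0 fun y => by
    obtain ⟨f, hf, rfl⟩ := R.extMk_surjective y (n + 2) rfl
    obtain ⟨t, ht⟩ := h (SiteBase.secEquiv U _ (e.inv ≫ φ.map f)) (by
      refine (SiteBase.secEquiv_comp U _ _).symm.trans ?_
      rw [Category.assoc, ← φ.map_comp, hf, φ.map_zero, comp_zero]
      exact (congrArg _ (SiteBase.secEquiv_symm_zero U _).symm).trans (Equiv.apply_symm_apply _ _))
    refine (R.extMk_eq_zero_iff f (n + 2) rfl hf n rfl).2
      ⟨φ.preimage (e.hom ≫ (SiteBase.secEquiv U _).symm t), φ.map_injective ?_⟩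
    rw [φ.map_comp, φ.map_preimage, Category.assoc, SiteBase.secEquiv_symm_comp, ht,
      Equiv.symm_apply_apply, Iso.hom_inv_id_assoc]
  haveI : Subsingleton (Ext.{u} (φ.obj P) (φ.obj F) (n + 1)) :=
    (bijective_mapExt_of_isEquivalence φ P F (n + 1)).2.subsingleton
  exact Function.Injective.subsingleton (f := fun x => (Ext.mk₀ e.hom).comp x (zero_add (n + 1)))
    fun x y h => by simpa using congrArg (fun z => (Ext.mk₀ e.inv).comp z (zero_add (n + 1))) h

end General

variable {S : Scheme.{u}} (X : AlgSp.Sp S)

/-- A small category equivalent to the small étale site. -/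
abbrev Cs : Type (u + 1) := AsSmall.{u + 1} (AlgSp.EtOver X)

/-- The equivalence with the small étale site. -/
abbrev eqv : Cs X ≌ AlgSp.EtOver X := AsSmall.equiv.symm

/-- The topology of the small model. -/
abbrev Js : GrothendieckTopology (Cs X) := (eqv X).functor.restrictedTopology (AlgSp.etTop X)

instance isDenseSubsite_functor : (eqv X).functor.IsDenseSubsite (Js X) (AlgSp.etTop X) :=
  inferInstance

instance isDenseSubsite_inverse : (eqv X).inverse.IsDenseSubsite (AlgSp.etTop X) (Js X) := by
  let e : AlgSp.EtOver X ≌ Cs X := AsSmall.equiv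
  haveI : e.inverse.IsDenseSubsite (Js X) (AlgSp.etTop X) := isDenseSubsite_functor X
  rw [Equivalence.eq_inducedTopology_of_isDenseSubsite (AlgSp.etTop X) (Js X) e]
  exact inferInstanceAs (e.functor.IsDenseSubsite _ _)

/-- The structure sheaf on the small model. -/
abbrev Os : Sheaf (Js X) CommRingCat.{u + 1} :=
  ((eqv X).functor.sheafPushforwardContinuous CommRingCat.{u + 1} (Js X) (AlgSp.etTop X)).obj (AlgSp.OEt X)

/-- Modules on the small étale site are modules on the small model. -/
def modEquiv : AlgSp.ModEt X ≌ ModSite.Mod (Os X) :=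
  SheafOfModules.pushforwardPushforwardEquivalence (eqv X) (𝟙 (ModSite.ringSh (Os X)))
    ⟨{ app := fun U => 𝟙 ((AlgSp.OEtRing X).obj.obj U), naturality := fun U V i => by
        exact (Category.comp_id _).trans (Category.id_comp _).symm }⟩
    (by
      ext U : 2
      refine Eq.trans ?_ (Category.id_comp _).symm
      exact (AlgSp.OEtRing X).obj.map_id _)
    (by
      ext U : 2
      refine Eq.trans (Category.id_comp _) ((Category.id_comp _).trans ?_)
      exact (AlgSp.OEtRing X).obj.map_id _)

instance : (modEquiv X).functor.Additive := Functor.additive_of_preserves_binary_products _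

/-- Transport of abelian sheaves to the small model. -/
abbrev sh : AlgSp.AbEt X ⥤ Sheaf (Js X) AddCommGrpCat.{u + 1} :=
  (eqv X).functor.sheafPushforwardContinuous AddCommGrpCat.{u + 1} (Js X) (AlgSp.etTop X)

/-- Affine objects of the small model. -/
def affB : Set (Cs X) := {E | Aff X (AsSmall.down.obj E)}

theorem affB_cover (U : Cs X) : ∃ (ι : Type (u + 1)) (Y : ι → Cs X) (f : ∀ i, Y i ⟶ U),
    Sieve.ofArrows Y f ∈ Js X U ∧ ∀ i, Y i ∈ affB X := by
  let U₀ : AlgSp.EtOver X := AsSmall.down.obj U
  refine ⟨ULift.{u + 1, u} ↥U₀.obj.left.left.affineOpens, fun O => AsSmall.up.obj (openObj U₀ O.down.1),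
    fun O => ULift.up (openObjHom U₀ O.down.1), ?_, fun O => aff_openObj U₀ O.down.2⟩
  rw [Functor.mem_restrictedTopology_iff]
  refine GrothendieckTopology.superset_covering _ (S := Sieve.ofArrows
    (fun O : U₀.obj.left.left.affineOpens => openObj U₀ O.1) (fun O => openObjHom U₀ O.1))
    ((Sieve.generate_le_iff _ _).2 ?_) (AlgSp.ofArrows_mem_etTop _ _ fun x => ?_)
  · rintro _ _ ⟨O⟩
    exact ⟨AsSmall.up.obj (openObj U₀ O.1), ULift.up (openObjHom U₀ O.1), 𝟙 _,
      Sieve.ofArrows_mk _ _ (ULift.up O), (Category.id_comp _).symm⟩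
  · obtain ⟨O, hO, hxO, -⟩ := exists_isAffineOpen_mem_and_subset (X := U₀.obj.left.left) (U := ⊤) (x := x) trivial
    exact ⟨⟨O, hO⟩, ⟨x, hxO⟩, rfl⟩

variable {X}

/-- Quasi-coherent modules have no higher cohomology on affine objects of the small model. -/
theorem subsingleton_HU_small {M : AlgSp.ModEt X} (hM : QC M) {U : Cs X} (hU : U ∈ affB X) (n : ℕ) :
    Subsingleton (ModSite.HU (Os X) ((modEquiv X).functor.obj M) (n + 1) U) := by
  haveI : (sh X).IsEquivalence := inferInstance
  haveI : (sh X).Additive := Functor.additive_of_preserves_binary_products _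
  exact subsingleton_HU_of_sections (sh X) (injectiveResolution ((AlgSp.toAbEt X).obj M)) n U
    fun s hs => exists_section_lift hM _ hU n s hs

end Groth.Agent.AlgSpRlim

end
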